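import Groth.Agent.MaxTorConjLib.MaxBC
import Groth.Agent.MaxTorConjLib.Descend
import Groth.Agent.ImgTorusLib.SameImage
import Groth.Agent.ImgTorusLib.Global
import Groth.Agent.BorelLib.ImageComp
import Groth.Agent.BorelLib.CentralPreimageRel
import Groth.Agent.AbSchLib.Flat
import Groth.Agent.MultSubLib.Family

/-!
A maximal torus of the target of a homomorphism with central kernel is the image of one of the source.
-/

set_option autoImplicit false
set_option linter.style.haveILetI false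
set_option linter.unusedSectionVars false
set_option backward.isDefEq.respectTransparency false
set_option maxHeartbeats 2000000
set_option synthInstance.maxHeartbeats 400000

noncomputable section

universe u

open CategoryTheory CategoryTheory.Limits MonoidalCategory CartesianMonoidalCategory AlgebraicGeometry
open scoped MonObj

attribute [-instance] CategoryTheory.Hom.commGroup

namespace Groth.Agent.MaxTorConj

open Groth.Agent.BorelLib

variable {S : Scheme.{u}} {G G' : Over S} [GrpObj G] [GrpObj G']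

/-- Transport of a maximal torus along an automorphism or isomorphism of groups. -/
theorem isMaximalTorus_iso {T : Over S} [GrpObj T] (e : G ≅ G') [IsMonHom e.hom] {i : T ⟶ G}
    (h : Red.IsMaximalTorus i) : Red.IsMaximalTorus (i ≫ e.hom) := by
  obtain ⟨him, hio, hit, hmax⟩ := h
  haveI := him; haveI := hio
  refine ⟨inferInstance, inferInstance, hit, fun s R _ J _ _ g hR hg => ?_⟩
  haveI := DiagRep.isMonHom_bc_map (Red.geomPt s) i
  haveI := mono_bc (Red.geomPt s) i
  let es : Red.geomFibre s G ≅ Red.geomFibre s G' := (Over.pullback (Red.geomPt s)).mapIso e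
  haveI : IsMonHom es.hom := DiagRep.isMonHom_bc_map (Red.geomPt s) e.hom
  haveI : IsMonHom (Iso.refl (Red.geomFibre s T)).hom := inferInstanceAs (IsMonHom (𝟙 (Red.geomFibre s T)))
  exact (isMaxTorus_iso es (Iso.refl (Red.geomFibre s T)) (i := (Over.pullback (Red.geomPt s)).map i)
    (i' := (Over.pullback (Red.geomPt s)).map (i ≫ e.hom)) (by simp [es])
    ⟨inferInstance, inferInstance, RedRank.isTorus_bc hit _, fun R' _ J' _ _ g' => hmax s R' J' g'⟩).2.2.2 R J g hR hg

/-- A homomorphism surjective on geometric fibres is surjective. -/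
theorem surjective_of_geom_fibres (u : G ⟶ G') (hu : ∀ s : S, Surjective ((Over.pullback (Red.geomPt s)).map u).left) :
    Surjective u.left := by
  refine ⟨fun y => ?_⟩
  let t := Red.geomPt (G'.hom y)
  obtain ⟨y', hy'⟩ : y ∈ Set.range (pullback.fst G'.hom t) := by
    rw [Scheme.Pullback.range_fst]
    exact ⟨IsLocalRing.closedPoint (AlgebraicClosure (S.residueField (G'.hom y))), RedRank.geomPt_apply _⟩
  obtain ⟨z, hz⟩ := (hu (G'.hom y)).surj y'
  change ((Over.pullback t).map u).left z = y' at hz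
  refine ⟨pullback.fst G.hom t z, ?_⟩
  rw [← Scheme.Hom.comp_apply, ← ActBC.pullback_map_left_fst t u, Scheme.Hom.comp_apply]
  exact (congrArg _ hz).trans hy'

/-- The image of a maximal torus under a surjective homomorphism is a maximal torus. -/
theorem exists_image_max [Smooth G.hom] [QuasiCompact G.hom] [Smooth G'.hom] [QuasiCompact G'.hom]
    [IsSeparated G'.hom] (u : G ⟶ G') [IsMonHom u] [Surjective u.left] {T : Over S} [GrpObj T] {i : T ⟶ G}
    (hT : Red.IsMaximalTorus i) :
    ∃ (T' : Over S) (_ : GrpObj T') (i' : T' ⟶ G') (p : T ⟶ T') (_ : IsMonHom p), Red.IsMaximalTorus i' ∧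
      p ≫ i' = i ≫ u ∧ Flat p.left ∧ Surjective p.left := by
  obtain ⟨him, hio, hit, himax⟩ := hT
  haveI := him; haveI := hio
  obtain ⟨T', _, i', hi', hm', p, hp, hT', hpi, hpf, hps, -⟩ := ImgTorus.exists_image_torus hit (i ≫ u)
  haveI := hi'; haveI := hm'; haveI := hp; haveI := hpf; haveI := hps
  refine ⟨T', inferInstance, i', p, hp, ⟨hi', hm', hT', fun s T'' _ j _ _ f hT'' hf => ?_⟩, hpi, hpf, hps⟩
  haveI : Smooth (Red.geomFibre s G).hom := MorphismProperty.pullback_snd (P := @Smooth) _ _ inferInstance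
  haveI : QuasiCompact (Red.geomFibre s G).hom := MorphismProperty.pullback_snd (P := @QuasiCompact) _ _ inferInstance
  haveI : Smooth (Red.geomFibre s G').hom := MorphismProperty.pullback_snd (P := @Smooth) _ _ inferInstance
  haveI : QuasiCompact (Red.geomFibre s G').hom := MorphismProperty.pullback_snd (P := @QuasiCompact) _ _ inferInstance
  haveI := DiagRep.isMonHom_bc_map (Red.geomPt s) u
  haveI := DiagRep.isMonHom_bc_map (Red.geomPt s) i
  haveI := DiagRep.isMonHom_bc_map (Red.geomPt s) i'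
  haveI := mono_bc (Red.geomPt s) i
  haveI := mono_bc (Red.geomPt s) i'
  haveI := surjective_bc (Red.geomPt s) p
  haveI := surjective_bc (Red.geomPt s) u
  haveI : Flat ((Over.pullback (Red.geomPt s)).map p).left := MorphismProperty.overPullbackMap (P := @Flat) _ p hpf
  obtain ⟨-, -, -, hmax⟩ := NA.isMaxTorus_image' ((Over.pullback (Red.geomPt s)).map u)
    (i := (Over.pullback (Red.geomPt s)).map i)
    ⟨inferInstance, inferInstance, RedRank.isTorus_bc hit _, fun T₀ _ j₀ _ _ f₀ h₀ e₀ => himax s T₀ j₀ f₀ h₀ e₀⟩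
    ((Over.pullback (Red.geomPt s)).map i') (RedRank.isTorus_bc hT' _) ((Over.pullback (Red.geomPt s)).map p)
    (by rw [← Functor.map_comp, hpi, Functor.map_comp])
  exact hmax T'' j f hT'' hf

/-- Over `π`, some maximal torus maps onto the base change of `i'`. -/
def HasPreimage (u : G ⟶ G') {T' : Over S} [GrpObj T'] (i' : T' ⟶ G') {P : Scheme.{u}} (π : P ⟶ S) : Prop :=
  ∃ (T : Over P) (_ : GrpObj T) (j : T ⟶ Red.bc π G) (x : T ⟶ Red.bc π T'), Red.IsMaximalTorus j ∧
    x ≫ (Over.pullback π).map i' = j ≫ (Over.pullback π).map u ∧ Surjective x.left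

omit [GrpObj G'] in
theorem hasPreimage_comp (u : G ⟶ G') {T' : Over S} [GrpObj T'] (i' : T' ⟶ G') {P Q : Scheme.{u}} (f : P ⟶ Q)
    (g : Q ⟶ S) (h : HasPreimage ((Over.pullback g).map u) ((Over.pullback g).map i') f) :
    HasPreimage u i' (f ≫ g) := by
  obtain ⟨T, _, j, x, hj, hx, hxs⟩ := h
  let cG : Red.bc f (Red.bc g G) ≅ Red.bc (f ≫ g) G := ActBC.bcCompIso f g G rfl
  let cT : Red.bc f (Red.bc g T') ≅ Red.bc (f ≫ g) T' := ActBC.bcCompIso f g T' rfl
  haveI : IsMonHom cG.hom := ActBC.bcCompIso_isMonHom _ _ _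
  refine ⟨T, inferInstance, j ≫ cG.hom, x ≫ cT.hom, isMaximalTorus_iso cG hj, ?_, ?_⟩
  · show (x ≫ (ActBC.bcCompIso f g T' rfl).hom) ≫ _ = (j ≫ (ActBC.bcCompIso f g G rfl).hom) ≫ _
    rw [Category.assoc, Category.assoc, ← ActBC.bcCompIso_hom_naturality, ← ActBC.bcCompIso_hom_naturality,
      ← Category.assoc, hx, Category.assoc]
  · rw [Over.comp_left]
    infer_instance

/-- Conjugation by a point lifting the one on the target. -/
theorem hasPreimage_of_conj [Smooth G.hom] [QuasiCompact G.hom] (u : G ⟶ G') [IsMonHom u] {T₁ T₁' T' : Over S} [GrpObj T₁] [GrpObj T₁'] [GrpObj T']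
    {i₁ : T₁ ⟶ G} (h₁ : Red.IsMaximalTorus i₁) {i₁' : T₁' ⟶ G'} {i' : T' ⟶ G'} {p : T₁ ⟶ T₁'}
    (hp : p ≫ i₁' = i₁ ≫ u) [Surjective p.left] {g' : 𝟙_ (Over S) ⟶ G'} {φ : T₁' ≅ T'}
    (hφ : (toUnit T₁' ≫ g') * i₁' * (toUnit T₁' ≫ g')⁻¹ = φ.hom ≫ i') {P : Scheme.{u}} (f : P ⟶ S)
    (g : 𝟙_ (Over P) ⟶ Red.bc f G) (g₁ : 𝟙_ (Over P) ⟶ Red.bc f (𝟙_ (Over S)))
    (hg : g ≫ (Over.pullback f).map u = g₁ ≫ (Over.pullback f).map g') : HasPreimage u i' f := by
  let F := Over.pullback f
  haveI := DiagRep.isMonHom_conjBy g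
  let e : Red.bc f G ≅ Red.bc f G := asIso (AGF.conjBy g (𝟙 (Red.bc f G)))
  haveI : IsMonHom e.hom := DiagRep.isMonHom_conjBy g
  haveI : IsMonHom (M := Red.bc f G) (N := Red.bc f G') (F.map u) := DiagRep.isMonHom_bc_map f u
  haveI : Surjective (F.map p).left := surjective_bc f p
  refine ⟨Red.bc f T₁, inferInstance, F.map i₁ ≫ e.hom, F.map p ≫ F.map φ.hom,
    isMaximalTorus_iso e (isMaximalTorus_bc h₁ f), ?_, ?_⟩
  · have hs : Subsingleton (Red.bc f T₁ ⟶ Red.bc f (𝟙_ (Over S))) :=
      ⟨(CartesianMonoidalCategory.isTerminalTensorUnit.isTerminalObj F _).hom_ext⟩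
    rw [show e.hom = AGF.conjBy g (𝟙 (Red.bc f G)) from rfl, ← DiagRep.conjBy_eq_comp, Category.assoc,
      ← F.map_comp, ← hφ, ← F.map_comp, MonObj.comp_mul, MonObj.comp_mul, GrpObj.comp_inv, hp, ← Category.assoc,
      Functor.map_mul, Functor.map_mul, show F.map ((p ≫ toUnit T₁') ≫ g')⁻¹ = (F.map ((p ≫ toUnit T₁') ≫ g'))⁻¹
        from map_inv (Functor.homMonoidHom F) _]
    simp only [AGF.conjBy, MonObj.mul_comp, GrpObj.inv_comp, F.map_comp, Category.assoc]
    rw [hg, ← Category.assoc (toUnit (Red.bc f T₁)), ← Category.assoc (F.map p),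
      hs.elim (toUnit (Red.bc f T₁) ≫ g₁) (F.map p ≫ F.map (toUnit T₁'))]
  · rw [Over.comp_left]
    infer_instance

/-- Locally a maximal torus of the target has a preimage. -/
theorem exists_local_preimage [Smooth G.hom] [IsSeparated G.hom] [QuasiCompact G.hom] [Smooth G'.hom]
    [IsSeparated G'.hom] [QuasiCompact G'.hom] (hG : SGA3x.HasMaxTorusFpqcLocally G) (u : G ⟶ G') [IsMonHom u]
    [Surjective u.left] {T' : Over S} [GrpObj T'] {i' : T' ⟶ G'} (hT' : Red.IsMaximalTorus i') :
    ∃ (P : Scheme.{u}) (π : P ⟶ S), Flat π ∧ Surjective π ∧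
      (∀ V : S.Opens, IsAffineOpen V → ∃ W : P.Opens, IsCompact (W : Set P) ∧ π.base '' (W : Set P) = (V : Set S)) ∧
      HasPreimage u i' π := by
  haveI : GeometricallyReduced G'.hom := AbSchLib.geometricallyReduced_of_smooth _
  haveI : Flat u.left := AbSchLib.flat_of_surjective u
  haveI : LocallyOfFinitePresentation u.left := CentPre.lfp_left u
  haveI : QuasiCompact (u.left ≫ G'.hom) := by rw [Over.w u]; infer_instance
  haveI : QuasiCompact u.left := QuasiCompact.of_comp u.left G'.hom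
  obtain ⟨S₁, f₁, hf₁, hs₁, hcov₁, T₁, _, i₁, hT₁⟩ := hG
  haveI := hf₁; haveI := hs₁
  haveI : Smooth (Red.bc f₁ G).hom := MorphismProperty.pullback_snd (P := @Smooth) _ _ inferInstance
  haveI : IsSeparated (Red.bc f₁ G).hom := inferInstanceAs (IsSeparated (pullback.snd G.hom f₁))
  haveI : QuasiCompact (Red.bc f₁ G).hom := MorphismProperty.pullback_snd (P := @QuasiCompact) _ _ inferInstance
  haveI : Smooth (Red.bc f₁ G').hom := MorphismProperty.pullback_snd (P := @Smooth) _ _ inferInstance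
  haveI : IsSeparated (Red.bc f₁ G').hom := inferInstanceAs (IsSeparated (pullback.snd G'.hom f₁))
  haveI : QuasiCompact (Red.bc f₁ G').hom := MorphismProperty.pullback_snd (P := @QuasiCompact) _ _ inferInstance
  let u₁ : Red.bc f₁ G ⟶ Red.bc f₁ G' := (Over.pullback f₁).map u
  haveI : IsMonHom u₁ := DiagRep.isMonHom_bc_map f₁ u
  haveI : Surjective u₁.left := surjective_bc f₁ u
  haveI : Flat u₁.left := MorphismProperty.overPullbackMap (P := @Flat) _ u inferInstance
  haveI : LocallyOfFinitePresentation u₁.left :=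
    MorphismProperty.overPullbackMap (P := @LocallyOfFinitePresentation) _ u inferInstance
  haveI : QuasiCompact u₁.left := MorphismProperty.overPullbackMap (P := @QuasiCompact) _ u inferInstance
  obtain ⟨T₁', _, i₁', p, hpm, hmax', hp, -, hps⟩ := exists_image_max u₁ hT₁
  haveI := hpm; haveI := hps
  obtain ⟨S₂, f₂, hf₂, hs₂, g', φ, hφ⟩ := exists_conj_etale i₁' ((Over.pullback f₁).map i') hmax'
    (isMaximalTorus_bc hT' f₁)
  haveI := hf₂; haveI := hs₂
  let F₂ := Over.pullback f₂
  haveI : Smooth (Red.bc f₂ (Red.bc f₁ G)).hom := MorphismProperty.pullback_snd (P := @Smooth) _ _ inferInstance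
  haveI : QuasiCompact (Red.bc f₂ (Red.bc f₁ G)).hom :=
    MorphismProperty.pullback_snd (P := @QuasiCompact) _ _ inferInstance
  let u₂ : Red.bc f₂ (Red.bc f₁ G) ⟶ Red.bc f₂ (Red.bc f₁ G') := F₂.map u₁
  haveI : IsMonHom u₂ := DiagRep.isMonHom_bc_map f₂ u₁
  haveI : Surjective u₂.left := surjective_bc f₂ u₁
  haveI : Flat u₂.left := MorphismProperty.overPullbackMap (P := @Flat) _ u₁ inferInstance
  haveI : LocallyOfFinitePresentation u₂.left :=
    MorphismProperty.overPullbackMap (P := @LocallyOfFinitePresentation) _ u₁ inferInstance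
  haveI : QuasiCompact u₂.left := MorphismProperty.overPullbackMap (P := @QuasiCompact) _ u₁ inferInstance
  let f₃ : pullback g'.left u₂.left ⟶ S₂ := pullback.fst g'.left u₂.left
  haveI : Flat f₃ := MorphismProperty.pullback_fst (P := @Flat) _ _ inferInstance
  haveI : Surjective f₃ := MorphismProperty.pullback_fst (P := @Surjective) _ _ inferInstance
  haveI : LocallyOfFinitePresentation f₃ :=
    MorphismProperty.pullback_fst (P := @LocallyOfFinitePresentation) _ _ inferInstance
  let E := Over.mapPullbackAdj f₃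
  let z₃ : (Over.map f₃).obj (𝟙_ (Over (pullback g'.left u₂.left))) ⟶ 𝟙_ (Over S₂) := Over.homMk f₃ (by
    show f₃ ≫ 𝟙 S₂ = 𝟙 _ ≫ f₃
    rw [Category.id_comp, Category.comp_id])
  let k : (Over.map f₃).obj (𝟙_ (Over (pullback g'.left u₂.left))) ⟶ Red.bc f₂ (Red.bc f₁ G) :=
    Over.homMk (pullback.snd g'.left u₂.left) (by
      show pullback.snd g'.left u₂.left ≫ _ = 𝟙 _ ≫ f₃
      rw [← Over.w u₂, ← Category.assoc, ← pullback.condition, Category.assoc, Over.w g', Category.id_comp]
      exact Category.comp_id _)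
  have hk : k ≫ u₂ = z₃ ≫ g' := Over.OverMorphism.ext pullback.condition.symm
  have hg : E.homEquiv _ _ k ≫ (Over.pullback f₃).map u₂ = E.homEquiv _ _ z₃ ≫ (Over.pullback f₃).map g' := by
    rw [← E.homEquiv_naturality_right, ← E.homEquiv_naturality_right, hk]
  haveI : Surjective (F₂.map p).left := surjective_bc f₂ p
  have h₃ : HasPreimage u₂ (F₂.map ((Over.pullback f₁).map i')) f₃ :=
    hasPreimage_of_conj u₂ (isMaximalTorus_bc hT₁ f₂) (i₁' := F₂.map i₁') (p := F₂.map p)
      (by rw [← F₂.map_comp, hp, F₂.map_comp]) hφ f₃ _ _ hg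
  refine ⟨_, (f₃ ≫ f₂) ≫ f₁, inferInstance, inferInstance, ?_,
    hasPreimage_comp u i' (f₃ ≫ f₂) f₁ (hasPreimage_comp u₁ _ f₃ f₂ h₃)⟩
  exact SubDesc.hcov_comp f₁ _ (SubDesc.hcov_comp f₂ f₃
    (MultSubLib.exists_compact_image f₃ f₃.isOpenMap f₃.surjective)
    (MultSubLib.exists_compact_image f₂ f₂.isOpenMap f₂.surjective)) hcov₁

end Groth.Agent.MaxTorConj
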