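import Groth.Agent.BorelLib.CentralPreimageRanks
import Groth.Agent.S8406
import Groth.Agent.RedRankLib.Fam
import Groth.Agent.EqNhdLib.Main
import Groth.Agent.AlbLib.Torus

/-!
Maximal tori on the geometric fibres are conjugate, with no connectedness hypothesis.
-/

set_option autoImplicit false
set_option linter.style.haveILetI false
set_option linter.unusedSectionVars false
set_option backward.isDefEq.respectTransparency false
set_option maxHeartbeats 1000000
set_option synthInstance.maxHeartbeats 400000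

noncomputable section

universe u

open CategoryTheory CategoryTheory.Limits MonoidalCategory CartesianMonoidalCategory AlgebraicGeometry
open scoped MonObj

attribute [-instance] CategoryTheory.Hom.commGroup

namespace Groth.Agent.MaxTorConj

open Groth.Agent.BorelLib

/-- Tori are smooth. -/
theorem smooth_of_isTorus {S : Scheme.{u}} {T : Over S} [GrpObj T] (hT : Red.IsTorus T) : Smooth T.hom := by
  haveI := EqNhd.flat_of_isMultTypeFT (RedRank.isMultTypeFT_of_isTorus hT)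
  haveI := MultEq.lfp_of_isMultTypeFT (RedRank.isMultTypeFT_of_isTorus hT)
  refine CentPre.smooth_of_geom_fibres T fun s => ?_
  haveI : LocallyOfFiniteType (Red.bc (Red.geomPt s) T).hom :=
    inferInstanceAs (LocallyOfFiniteType (pullback.snd T.hom (Red.geomPt s)))
  haveI : Smooth (Red.geomFibre s T).hom := (AlbLib.smooth_connected_of_isTorus (RedRank.isTorus_bc hT _)).1
  infer_instance

/-- Maximal tori of a smooth algebraic group over an algebraically closed field are conjugate. -/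
theorem conj_algClosed {k : Type u} [Field k] [IsAlgClosed k] {G T₁ T₂ : Over (Spec (CommRingCat.of k))} [GrpObj G]
    [Smooth G.hom] [QuasiCompact G.hom] [GrpObj T₁] [GrpObj T₂] {i₁ : T₁ ⟶ G} {i₂ : T₂ ⟶ G}
    (h₁ : AGF.IsMaxTorus i₁) (h₂ : AGF.IsMaxTorus i₂) :
    ∃ g : 𝟙_ (Over (Spec (CommRingCat.of k))) ⟶ G, SGA3x.ConjBy i₁ i₂ g := by
  obtain ⟨A, _, a, ha, hac, -, hAs, hAconn, hfac⟩ := CentPre.exists_comp_open (G := G)
  haveI := ha; haveI := hac; haveI := hAs; haveI := hAconn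
  haveI : Mono a := DiagRep.mono_of_isClosedImmersion a hac
  haveI : QuasiCompact A.hom := by rw [← Over.w a]; infer_instance
  haveI := h₁.1; haveI := h₂.1; haveI := h₁.2.1; haveI := h₂.2.1
  obtain ⟨-, -, hc₁, -, hr₁, -⟩ := NA.torus_props i₁ h₁.2.2.1
  obtain ⟨-, -, hc₂, -, hr₂, -⟩ := NA.torus_props i₂ h₂.2.2.1
  haveI := hc₁; haveI := hc₂; haveI := hr₁; haveI := hr₂
  obtain ⟨t₁, ht₁⟩ := hfac T₁ i₁
  obtain ⟨t₂, ht₂⟩ := hfac T₂ i₂
  obtain ⟨g, φ, hφ⟩ := S8406.result k A T₁ T₂ t₁ t₂ (isMaximalTorus_of_isMaxTorus (NA.isMaxTorus_of_sub a h₁ ht₁))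
    (isMaximalTorus_of_isMaxTorus (NA.isMaxTorus_of_sub a h₂ ht₂))
  refine ⟨g ≫ a, φ, ?_⟩
  rw [← ht₂, show φ.hom ≫ t₂ ≫ a = (φ.hom ≫ t₂) ≫ a from (Category.assoc _ _ _).symm, ← hφ, MonObj.mul_comp, MonObj.mul_comp, GrpObj.inv_comp, ht₁, Category.assoc]

/-- A conjugation of subgroups on a fibre, read as a family on points over the base. -/
theorem exists_conj_family {S : Scheme.{u}} {G T₁ T₂ : Over S} [GrpObj G] [GrpObj T₁] [GrpObj T₂] (i₁ : T₁ ⟶ G)
    [IsMonHom i₁] (i₂ : T₂ ⟶ G) [IsMonHom i₂] [Mono i₂] {K : Scheme.{u}} (t : K ⟶ S)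
    (g₀ : 𝟙_ (Over K) ⟶ Red.bc t G)
    (h : SGA3x.ConjBy ((Over.pullback t).map i₁) ((Over.pullback t).map i₂) g₀) :
    ∃ (g : Over.mk t ⟶ G) (ψ : T₁ ⊗ Over.mk t ⟶ T₂), AutFam.IsHomFamily T₁ T₂ ψ ∧
      ∀ (Y : Over S) (y : Y ⟶ Over.mk t) (h : Y ⟶ T₁),
        (y ≫ g) * (h ≫ i₁) * (y ≫ g)⁻¹ = (lift h y ≫ ψ) ≫ i₂ := by
  obtain ⟨φ, hφ⟩ := h
  haveI := DiagRep.isMonHom_bc_map t i₁
  haveI := DiagRep.isMonHom_bc_map t i₂
  haveI : Mono ((Over.pullback t).map i₂) := by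
    haveI : (Over.pullback t).IsRightAdjoint := (Over.mapPullbackAdj t).isRightAdjoint
    infer_instance
  haveI hm : IsMonHom (M := Red.bc t T₁) (N := Red.bc t T₂) φ.hom := RedRank.isMonHom_of_mul _ fun Z a b => by
    refine (cancel_mono ((Over.pullback t).map i₂)).1 ?_
    conv_rhs => rw [MonObj.mul_comp]
    rw [Category.assoc, Category.assoc, Category.assoc, ← hφ]
    simp only [MonObj.comp_mul, GrpObj.comp_inv, MonObj.mul_comp]
    rw [← Category.assoc (a * b), toUnit_unique ((a * b) ≫ toUnit _) (toUnit Z), ← Category.assoc a,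
      toUnit_unique (a ≫ toUnit _) (toUnit Z), ← Category.assoc b, toUnit_unique (b ≫ toUnit _) (toUnit Z)]
    simp only [_root_.mul_assoc, inv_mul_cancel_left]
  let Z : Over S := Over.mk t
  let adj := Over.mapPullbackAdj Z.hom
  obtain ⟨ψ, hψ⟩ := RedRank.exists_homOf_eq (T := Z) φ.hom
  haveI : IsMonHom (RedRank.homOf ψ) := by rw [hψ]; exact hm
  let ζ : (Over.map Z.hom).obj (𝟙_ (Over K)) ≅ Z := Over.isoMk (Iso.refl _) (by
    show 𝟙 K ≫ t = 𝟙 K ≫ t
    rfl)
  refine ⟨ζ.inv ≫ (adj.homEquiv _ G).symm g₀, ψ, RedRank.isHomFamily_of_isMonHom ψ, fun Y y x => ?_⟩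
  let hp := RedRank.piso y
  have hy : hp.hom ≫ y ≫ ζ.inv = (Over.map Z.hom).map (toUnit (RedRank.pobj y)) := by
    rw [reassoc_of% RedRank.piso_hom_comp y]
    exact Over.OverMorphism.ext (Category.comp_id _)
  rw [← cancel_epi hp.hom]
  refine (adj.homEquiv (RedRank.pobj y) G).injective ?_
  rw [MonObj.comp_mul, MonObj.comp_mul, GrpObj.comp_inv, reassoc_of% hy, AlgGrp.Action.homEquiv_mul,
    AlgGrp.Action.homEquiv_mul,
    show ∀ a, adj.homEquiv (RedRank.pobj y) G a⁻¹ = (adj.homEquiv (RedRank.pobj y) G a)⁻¹ from fun a =>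
      map_inv (MonoidHom.mk' (adj.homEquiv (RedRank.pobj y) G) (fun a b => AlgGrp.Action.homEquiv_mul Z.hom a b)) a,
    adj.homEquiv_naturality_left]
  erw [Equiv.apply_symm_apply]
  have e1 := adj.homEquiv_naturality_right (hp.hom ≫ x) i₁
  have e2 := adj.homEquiv_naturality_right (hp.hom ≫ lift x y ≫ ψ) i₂
  rw [Category.assoc] at e1
  rw [Category.assoc, Category.assoc] at e2
  rw [e1, Category.assoc, e2]
  rw [show adj.homEquiv (RedRank.pobj y) T₂ (hp.hom ≫ lift x y ≫ ψ) =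
      adj.homEquiv (RedRank.pobj y) T₁ (hp.hom ≫ x) ≫ φ.hom from
    (RedRank.bcEquiv_lift ψ x y).trans (by rw [hψ])]
  rw [Category.assoc]
  change _ = _ ≫ φ.hom ≫ (Over.pullback t).map i₂
  rw [← hφ, MonObj.comp_mul, MonObj.comp_mul, GrpObj.comp_inv, ← Category.assoc _ (toUnit _),
    toUnit_unique (_ ≫ toUnit _) (toUnit (RedRank.pobj y))]
  rfl

end Groth.Agent.MaxTorConj
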