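import Groth.Agent.MaxTorConjLib.Preimage
import Groth.Agent.FFDescLib.Basic

/-!
The local preimages of a maximal torus descend to the base.
-/

set_option autoImplicit false
set_option linter.style.haveILetI false
set_option linter.unusedSectionVars false
set_option backward.isDefEq.respectTransparency false
set_option maxHeartbeats 2000000
set_option synthInstance.maxHeartbeats 400000

noncomputable section

universe u

open CategoryTheory CategoryTheory.Limits MonoidalCategory CartesianMonoidalCategory AlgebraicGeometry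
open scoped MonObj

attribute [-instance] CategoryTheory.Hom.commGroup

namespace Groth.Agent.MaxTorConj

open Groth.Agent.BorelLib

theorem isIso_of_isIso_bc {k K : Type u} [Field k] [Field K] (l : Spec (CommRingCat.of K) ⟶ Spec (CommRingCat.of k))
    {X Y : Over (Spec (CommRingCat.of k))} (f : X ⟶ Y) [IsIso ((Over.pullback l).map f)] : IsIso f := by
  haveI : Surjective l := ⟨fun y => ⟨IsLocalRing.closedPoint K, Subsingleton.elim (α := PrimeSpectrum k) _ _⟩⟩
  haveI : IsIso f.left := MorphismProperty.of_isPullback_of_descendsAlong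
    (P := MorphismProperty.isomorphisms Scheme) (Q := @Surjective ⊓ @Flat ⊓ @QuasiCompact) (isPullback_bc_map l f).flip
    ⟨⟨MorphismProperty.pullback_fst (P := @Surjective) _ _ inferInstance,
      MorphismProperty.pullback_fst (P := @Flat) _ _ inferInstance⟩,
      MorphismProperty.pullback_fst (P := @QuasiCompact) _ _ inferInstance⟩
    (inferInstanceAs (IsIso ((Over.forget _).map ((Over.pullback l).map f))))
  haveI : IsIso ((Over.forget _).map f) := ‹IsIso f.left›
  exact isIso_of_reflects_iso f (Over.forget _)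

variable {S : Scheme.{u}} {G G' : Over S} [GrpObj G] [GrpObj G']

theorem swap_preimage [Smooth G.hom] [IsSeparated G.hom] [QuasiCompact G.hom] (u : G ⟶ G') [IsMonHom u]
    (hker : CentPre.KerCentral u) {T' : Over S} [GrpObj T'] {i' : T' ⟶ G'} (hT' : Red.IsMaximalTorus i')
    {P : Scheme.{u}} (π : P ⟶ S) {T : Over P} [GrpObj T] {j : T ⟶ Red.bc π G} {x : T ⟶ Red.bc π T'}
    (hj : Red.IsMaximalTorus j) (hx : x ≫ (Over.pullback π).map i' = j ≫ (Over.pullback π).map u)
    {R : Scheme.{u}} (x₀ x₁ : R ⟶ P) (hx₀₁ : x₀ ≫ π = x₁ ≫ π) (v : R ⟶ T.left) (hv : v ≫ T.hom = x₀) :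
    ∃ w : R ⟶ T.left, w ≫ T.hom = x₁ ∧
      w ≫ j.left ≫ pullback.fst G.hom π = v ≫ j.left ≫ pullback.fst G.hom π := by
  obtain ⟨him, hio, hit', -⟩ := hT'
  haveI := him; haveI := hio
  haveI : Smooth (Red.bc π G).hom := MorphismProperty.pullback_snd (P := @Smooth) _ _ inferInstance
  haveI : QuasiCompact (Red.bc π G).hom := MorphismProperty.pullback_snd (P := @QuasiCompact) _ _ inferInstance
  let d := x₀ ≫ π
  haveI : Smooth (Red.bc d G).hom := MorphismProperty.pullback_snd (P := @Smooth) _ _ inferInstance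
  haveI : QuasiCompact (Red.bc d G).hom := MorphismProperty.pullback_snd (P := @QuasiCompact) _ _ inferInstance
  haveI : IsSeparated (Red.bc d G).hom := inferInstanceAs (IsSeparated (pullback.snd G.hom d))
  let cG₀ : Red.bc x₀ (Red.bc π G) ≅ Red.bc d G := ActBC.bcCompIso x₀ π G rfl
  let cT₀ : Red.bc x₀ (Red.bc π T') ≅ Red.bc d T' := ActBC.bcCompIso x₀ π T' rfl
  let cG₁ : Red.bc x₁ (Red.bc π G) ≅ Red.bc d G := ActBC.bcCompIso x₁ π G hx₀₁.symm
  let cT₁ : Red.bc x₁ (Red.bc π T') ≅ Red.bc d T' := ActBC.bcCompIso x₁ π T' hx₀₁.symm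
  haveI : IsMonHom cG₀.hom := ActBC.bcCompIso_isMonHom _ _ _
  haveI : IsMonHom cG₁.hom := ActBC.bcCompIso_isMonHom _ _ _
  let a₀ := (Over.pullback x₀).map j ≫ cG₀.hom
  let a₁ := (Over.pullback x₁).map j ≫ cG₁.hom
  let ud : Red.bc d G ⟶ Red.bc d G' := (Over.pullback d).map u
  haveI : IsMonHom ud := DiagRep.isMonHom_bc_map d u
  haveI : IsMonHom (M := Red.bc d T') (N := Red.bc d G') ((Over.pullback d).map i') := DiagRep.isMonHom_bc_map d i'
  have hnat : ∀ (y : R ⟶ P) (h : y ≫ π = d),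
      ((Over.pullback y).map x ≫ (ActBC.bcCompIso y π T' h).hom) ≫ (Over.pullback d).map i' =
        ((Over.pullback y).map j ≫ (ActBC.bcCompIso y π G h).hom) ≫ ud := by
    intro y h
    rw [Category.assoc, Category.assoc, ← ActBC.bcCompIso_hom_naturality, ← ActBC.bcCompIso_hom_naturality,
      ← Functor.map_comp_assoc, ← Functor.map_comp_assoc, hx]
  obtain ⟨φ, hφ⟩ := ImgTorus.exists_iso_of_same_image ud (CentPre.kerCentral_bc d hker) a₀ a₁
    ((Over.pullback d).map i') _ _ (RedRank.isTorus_bc hit' d) (isMaximalTorus_iso cG₀ (isMaximalTorus_bc hj x₀))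
    (isMaximalTorus_iso cG₁ (isMaximalTorus_bc hj x₁)) (hnat x₀ rfl) (hnat x₁ hx₀₁.symm)
  let s : R ⟶ pullback T.hom x₀ := pullback.lift v (𝟙 R) (by rw [hv, Category.id_comp])
  refine ⟨s ≫ φ.hom.left ≫ pullback.fst T.hom x₁, ?_, ?_⟩
  · have e : φ.hom.left ≫ pullback.snd T.hom x₁ = pullback.snd T.hom x₀ := Over.w φ.hom
    rw [Category.assoc, Category.assoc, pullback.condition, reassoc_of% e, pullback.lift_snd_assoc, Category.id_comp]
  · have hl : ∀ (y : R ⟶ P) (h : y ≫ π = d),
        pullback.fst T.hom y ≫ j.left ≫ pullback.fst G.hom π =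
          ((Over.pullback y).map j ≫ (ActBC.bcCompIso y π G h).hom).left ≫ pullback.fst G.hom d := by
      intro y h
      rw [Over.comp_left, Category.assoc, ActBC.bcCompIso_hom_left_fst, ← Category.assoc, ← Category.assoc,
        ActBC.pullback_map_left_fst]
    rw [Category.assoc, Category.assoc, hl x₁ hx₀₁.symm, ← Category.assoc φ.hom.left, ← Over.comp_left, hφ,
      ← hl x₀ rfl, pullback.lift_fst_assoc]

/-- A maximal torus of the target is the image of a maximal torus of the source. -/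
theorem exists_preimage_torus [Smooth G.hom] [IsSeparated G.hom] [QuasiCompact G.hom] [Smooth G'.hom]
    [IsSeparated G'.hom] [QuasiCompact G'.hom] (hG : SGA3x.HasMaxTorusFpqcLocally G) (u : G ⟶ G') [IsMonHom u]
    [Surjective u.left] (hker : CentPre.KerCentral u) {T' : Over S} [GrpObj T'] {i' : T' ⟶ G'}
    (hT' : Red.IsMaximalTorus i') :
    ∃ (T : Over S) (_ : GrpObj T) (i : T ⟶ G) (v : T ⟶ T'), Red.IsMaximalTorus i ∧ IsMonHom v ∧
      v ≫ i' = i ≫ u ∧ Surjective v.left ∧ Flat v.left := by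
  obtain ⟨P, π, hπf, hπs, hcov, T₃, _, j, x, hj, hx, hxs⟩ := exists_local_preimage hG u hT'
  haveI := hπf; haveI := hπs; haveI := hxs
  obtain ⟨hjm, hjo, hjt, hjmax⟩ := id hj
  haveI := hjm; haveI := hjo
  haveI := MultEq.isAffineHom_of_isMultTypeFT (RedRank.isMultTypeFT_of_isTorus hjt)
  obtain ⟨U, _, jU, hjU, hjUm, θ, hθm, hθ⟩ :=
    exists_descend_subgroup π hcov j fun x₀ x₁ h v hv => swap_preimage u hker hT' π hj hx x₀ x₁ h v hv
  haveI := hjU; haveI := hjUm; haveI := hθm
  have hUt : Red.IsTorus U := by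
    obtain ⟨S'', f, hflat, hsurj, hcovf, hloc⟩ := hjt
    haveI := hflat; haveI := hsurj
    refine ⟨S'', f ≫ π, inferInstance, inferInstance, SubDesc.hcov_comp π f hcovf hcov, fun z => ?_⟩
    obtain ⟨V, hzV, r, ⟨e⟩⟩ := hloc z
    let g := V.ι ≫ f
    let b : Red.bc g (Red.bc π U) ≅ Red.bc (V.ι ≫ f ≫ π) U := ActBC.bcCompIso g π U (Category.assoc _ _ _)
    haveI : IsMonHom b.hom := ActBC.bcCompIso_isMonHom _ _ _
    haveI : IsMonHom (M := Red.bc g (Red.bc π U)) (N := Red.bc g T₃) ((Over.pullback g).map θ.hom) :=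
      DiagRep.isMonHom_bc_map g θ.hom
    let w : Red.bc (V.ι ≫ f ≫ π) U ≅ Red.bc g T₃ := b.symm ≪≫ (Over.pullback g).mapIso θ
    haveI : IsMonHom w.hom := by
      show IsMonHom (b.inv ≫ (Over.pullback g).map θ.hom)
      infer_instance
    exact ⟨V, hzV, r, ⟨Grp.mkIso' w ≪≫ e⟩⟩
  have hUmax : Red.IsMaximalTorus jU := by
    refine ⟨hjU, hjUm, hUt, fun s R _ J _ _ g hR hg => ?_⟩
    obtain ⟨y, rfl⟩ := π.surjective s
    obtain ⟨l, hl⟩ := exists_geomPt_factor π y
    let t := Red.geomPt (π y)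
    let py := Red.geomPt y
    let F := Over.pullback l
    haveI := DiagRep.isMonHom_bc_map py j
    haveI := mono_bc py j
    let cU₁ : Red.bc py (Red.bc π U) ≅ Red.bc (py ≫ π) U := ActBC.bcCompIso py π U rfl
    let cU₂ : Red.bc l (Red.bc t U) ≅ Red.bc (py ≫ π) U := ActBC.bcCompIso l t U hl
    let cG₁ : Red.bc py (Red.bc π G) ≅ Red.bc (py ≫ π) G := ActBC.bcCompIso py π G rfl
    let cG₂ : Red.bc l (Red.bc t G) ≅ Red.bc (py ≫ π) G := ActBC.bcCompIso l t G hl
    haveI : IsMonHom cU₁.hom := ActBC.bcCompIso_isMonHom _ _ _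
    haveI : IsMonHom cU₂.hom := ActBC.bcCompIso_isMonHom _ _ _
    haveI : IsMonHom cG₁.hom := ActBC.bcCompIso_isMonHom _ _ _
    haveI : IsMonHom cG₂.hom := ActBC.bcCompIso_isMonHom _ _ _
    haveI : IsMonHom cU₁.inv := inferInstance
    haveI : IsMonHom cG₂.inv := inferInstance
    haveI : IsMonHom (cG₁ ≪≫ cG₂.symm).hom := inferInstanceAs (IsMonHom (cG₁.hom ≫ cG₂.inv))
    haveI : IsMonHom (M := Red.bc py (Red.bc π U)) (N := Red.bc py T₃) ((Over.pullback py).map θ.hom) :=
      DiagRep.isMonHom_bc_map py θ.hom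
    let eU : Red.bc l (Red.bc t U) ≅ Red.bc py T₃ := (cU₂ ≪≫ cU₁.symm) ≪≫ (Over.pullback py).mapIso θ
    haveI : IsMonHom eU.hom :=
      inferInstanceAs (IsMonHom ((cU₂.hom ≫ cU₁.inv) ≫ (Over.pullback py).map θ.hom))
    have hnat : eU.hom ≫ (Over.pullback py).map j ≫ (cG₁ ≪≫ cG₂.symm).hom = F.map ((Over.pullback t).map jU) := by
      show ((cU₂.hom ≫ cU₁.inv) ≫ (Over.pullback py).map θ.hom) ≫ (Over.pullback py).map j ≫ cG₁.hom ≫ cG₂.inv = _
      rw [Category.assoc, ← Functor.map_comp_assoc, hθ, ActBC.bcCompIso_hom_naturality_assoc, Category.assoc,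
        Iso.inv_hom_id_assoc, ← ActBC.bcCompIso_hom_naturality_assoc, Iso.hom_inv_id, Category.comp_id]
    have hmax := isMaxTorus_iso (cG₁ ≪≫ cG₂.symm) eU hnat
      ⟨inferInstance, inferInstance, RedRank.isTorus_bc hjt py, fun R' _ J' _ _ g' => hjmax y R' J' g'⟩
    haveI : IsMonHom (M := Red.bc l R) (N := Red.bc l (Red.bc t G)) (F.map J) := DiagRep.isMonHom_bc_map l J
    haveI : Mono (F.map J) := mono_bc l J
    haveI : IsIso (F.map g) := hmax.2.2.2 (Red.bc l R) (F.map J) (F.map g) (RedRank.isTorus_bc hR l)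
      (by rw [← F.map_comp, hg])
    exact isIso_of_isIso_bc l g
  obtain ⟨him', hio', hit', -⟩ := hT'
  haveI := him'; haveI := hio'
  obtain ⟨h, hh⟩ := factor_mono π hcov i' (jU ≫ u) (θ.hom ≫ x) (by
    rw [Category.assoc, hx, ← Category.assoc, hθ, Functor.map_comp])
  haveI : IsMonHom (h ≫ i') := by rw [hh]; infer_instance
  haveI : IsMonHom h := DiagRep.isMonHom_of_comp_mono h i'
  haveI : Surjective h.left := by
    haveI := mono_bc π i'
    have e : (Over.pullback π).map h = θ.hom ≫ x := by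
      rw [← cancel_mono ((Over.pullback π).map i'), ← Functor.map_comp, hh, Category.assoc, hx, ← Category.assoc,
        hθ, Functor.map_comp]
    haveI : Surjective ((Over.pullback π).map h).left := by rw [e, Over.comp_left]; infer_instance
    haveI : Surjective (pullback.fst T'.hom π) := MorphismProperty.pullback_fst (P := @Surjective) _ _ inferInstance
    have : Surjective (pullback.fst U.hom π ≫ h.left) := by
      rw [← ActBC.pullback_map_left_fst]; infer_instance
    exact Surjective.of_comp (pullback.fst U.hom π) h.left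
  haveI := smooth_of_isTorus hUt
  haveI := smooth_of_isTorus hit'
  haveI : GeometricallyReduced T'.hom := AbSchLib.geometricallyReduced_of_smooth _
  exact ⟨U, inferInstance, jU, h, hUmax, inferInstance, hh, inferInstance, AbSchLib.flat_of_surjective h⟩

end Groth.Agent.MaxTorConj
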