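import Groth.Agent.MaxTorConjLib.Main
import Groth.Agent.RCentreLib.Torus
import Groth.Agent.ImgTorusLib.Nbhd
import Groth.Agent.BorelLib.ImageField

/-!
Maximal tori of smooth groups of finite type stay maximal after any base change.
-/

set_option autoImplicit false
set_option linter.style.haveILetI false
set_option linter.unusedSectionVars false
set_option backward.isDefEq.respectTransparency false
set_option maxHeartbeats 2000000
set_option synthInstance.maxHeartbeats 400000

noncomputable section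

universe u

open CategoryTheory CategoryTheory.Limits MonoidalCategory CartesianMonoidalCategory AlgebraicGeometry
open scoped MonObj

attribute [-instance] CategoryTheory.Hom.commGroup

namespace Groth.Agent.MaxTorConj

open Groth.Agent.BorelLib

section Field

variable {k K : Type u} [Field k] [IsAlgClosed k] [Field K] [IsAlgClosed K]
  (p : Spec (CommRingCat.of K) ⟶ Spec (CommRingCat.of k))

/-- A maximal torus stays maximal over a larger algebraically closed field. -/
theorem isMaxTorus_bc_field {G T : Over (Spec (CommRingCat.of k))} [GrpObj G] [Smooth G.hom] [QuasiCompact G.hom]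
    [GrpObj T] {i : T ⟶ G} (h : AGF.IsMaxTorus i) : AGF.IsMaxTorus (T := Red.bc p T) (G := Red.bc p G)
      ((Over.pullback p).map i) := by
  obtain ⟨A, _, a, ha, hac, hao, hAs, hAconn, hfac⟩ := CentPre.exists_comp_open (G := G)
  haveI := ha; haveI := hac; haveI := hao; haveI := hAs; haveI := hAconn
  haveI : Mono a := DiagRep.mono_of_isClosedImmersion a hac
  haveI : QuasiCompact A.hom := by rw [← Over.w a]; infer_instance
  obtain ⟨L, _, l, Q, _, q, hlm, hlc, hla, hls, hlconn, -, hqm, -, -, hker, hQp, -, -, -⟩ :=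
    Groth.Agent.S4141.result k A
  haveI := hlm; haveI := hlc; haveI := hla; haveI := hls; haveI := hlconn; haveI := hqm; haveI := hQp
  haveI : Mono l := DiagRep.mono_of_isClosedImmersion l hlc
  haveI := h.1; haveI := h.2.1
  obtain ⟨hTa, hTs, hTconn, -, hTred, -⟩ := NA.torus_props i h.2.2.1
  haveI := hTa; haveI := hTs; haveI := hTconn; haveI := hTred
  obtain ⟨t₀, ht₀⟩ := hfac T i
  have hmaxA := NA.isMaxTorus_of_sub a h ht₀
  haveI := hmaxA.1
  obtain ⟨t, ht⟩ := AntiAffLib.exists_lift_kernel hker t₀ (AlbLib.eq_one_of_affine (t₀ ≫ q))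
  have hmaxL := NA.isMaxTorus_of_sub l hmaxA ht
  haveI : IsAffineHom L.hom := inferInstance
  have hK := RCentre.isMaximalTorus_bc (BorelLib.isMaximalTorus_of_isMaxTorus hmaxL) p
  obtain ⟨-, -, -, hmax⟩ := BorelLib.isMaxTorus_of_isMaximalTorus hK
  haveI := DiagRep.isMonHom_bc_map p i
  haveI := mono_bc p i
  refine ⟨inferInstance, inferInstance, RedRank.isTorus_bc h.2.2.1 p, fun R _ J _ _ f hR hf => ?_⟩
  haveI : Smooth (Red.bc p G).hom := MorphismProperty.pullback_snd (P := @Smooth) _ _ inferInstance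
  haveI : QuasiCompact (Red.bc p G).hom := MorphismProperty.pullback_snd (P := @QuasiCompact) _ _ inferInstance
  obtain ⟨hRa, hRs, hRconn, -, hRred, -⟩ := NA.torus_props J hR
  haveI := hRa; haveI := hRs; haveI := hRconn; haveI := hRred
  let aK : Red.bc p A ⟶ Red.bc p G := (Over.pullback p).map a
  haveI : IsMonHom aK := DiagRep.isMonHom_bc_map p a
  haveI : IsOpenImmersion aK.left := MorphismProperty.overPullbackMap (P := @IsOpenImmersion) p a hao
  haveI : IsClosedImmersion aK.left := isClosedImmersion_bc p a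
  haveI : Mono aK := mono_bc p a
  have hsub : Set.range J.left ⊆ Set.range aK.left := by
    have hcl : IsClopen (J.left ⁻¹' Set.range aK.left) :=
      ⟨aK.left.isClosedEmbedding.isClosed_range.preimage J.left.continuous,
        aK.left.isOpenEmbedding.isOpen_range.preimage J.left.continuous⟩
    have he : J.left ((η[R] : 𝟙_ _ ⟶ R).left (IsLocalRing.closedPoint K)) ∈ Set.range aK.left := by
      refine ⟨(η[Red.bc p A] : 𝟙_ _ ⟶ Red.bc p A).left (IsLocalRing.closedPoint K), ?_⟩
      rw [← Scheme.Hom.comp_apply, ← Scheme.Hom.comp_apply, ← Over.comp_left, ← Over.comp_left,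
        IsMonHom.one_hom, IsMonHom.one_hom]
    rintro _ ⟨x, rfl⟩
    exact (hcl.eq_univ ⟨_, he⟩).ge (Set.mem_univ x)
  let J₀ : R ⟶ Red.bc p A := Over.homMk (IsOpenImmersion.lift aK.left J.left hsub) (by
    rw [← Over.w aK, ← Category.assoc, IsOpenImmersion.lift_fac, Over.w J])
  have hJ₀ : J₀ ≫ aK = J := Over.OverMorphism.ext (IsOpenImmersion.lift_fac _ _ _)
  haveI : IsMonHom (J₀ ≫ aK) := by rw [hJ₀]; infer_instance
  haveI : IsMonHom J₀ := DiagRep.isMonHom_of_comp_mono J₀ aK
  haveI : IsMonHom (M := Red.bc p A) (N := Red.bc p Q) ((Over.pullback p).map q) := DiagRep.isMonHom_bc_map p q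
  haveI : IsProper (Red.bc p Q).hom := MorphismProperty.pullback_snd (P := @IsProper) _ _ inferInstance
  have hJq : J₀ ≫ (Over.pullback p).map q = 1 := AlbLib.eq_one_of_affine _
  rw [ImgTorus.bcPt_comp_eq_one_iff] at hJq
  obtain ⟨j₁, hj₁⟩ := AntiAffLib.exists_lift_kernel hker _ hJq
  let J₁ : R ⟶ Red.bc p L := (Over.mapPullbackAdj p).homEquiv R L j₁
  let lK : Red.bc p L ⟶ Red.bc p A := (Over.pullback p).map l
  haveI : IsMonHom lK := DiagRep.isMonHom_bc_map p l
  haveI : Mono lK := mono_bc p l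
  have hJ₁ : J₁ ≫ lK = J₀ := by
    show (Over.mapPullbackAdj p).homEquiv R L j₁ ≫ (Over.pullback p).map l = J₀
    rw [← Adjunction.homEquiv_naturality_right, hj₁, Equiv.apply_symm_apply]
  haveI : IsMonHom (J₁ ≫ lK) := by rw [hJ₁]; infer_instance
  haveI : IsMonHom J₁ := DiagRep.isMonHom_of_comp_mono J₁ lK
  haveI : Mono (J₁ ≫ lK ≫ aK) := by rw [← Category.assoc, hJ₁, hJ₀]; infer_instance
  haveI : Mono J₁ := mono_of_mono J₁ (lK ≫ aK)
  refine hmax R J₁ f hR ?_
  rw [← cancel_mono (lK ≫ aK), Category.assoc f, ← Category.assoc J₁, hJ₁, hJ₀, hf]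
  show _ = (Over.pullback p).map t ≫ (Over.pullback p).map l ≫ (Over.pullback p).map a
  rw [← Functor.map_comp, ← Functor.map_comp, ← Category.assoc, ht, ht₀]

end Field

/-- Transport of a maximal torus along isomorphisms. -/
theorem isMaxTorus_iso {S : Scheme.{u}} {G G' T T' : Over S} [GrpObj G] [GrpObj G'] [GrpObj T] [GrpObj T'] (e : G ≅ G')
    [IsMonHom e.hom] (θ : T' ≅ T) [IsMonHom θ.hom] {i : T ⟶ G} {i' : T' ⟶ G'} (hi : θ.hom ≫ i ≫ e.hom = i')
    (h : AGF.IsMaxTorus i) : AGF.IsMaxTorus i' := by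
  haveI := h.1; haveI := h.2.1
  haveI : IsMonHom e.inv := inferInstance
  subst hi
  refine ⟨inferInstance, inferInstance, RedRank.isTorus_of_iso θ h.2.2.1, fun R _ J _ _ f hR hf => ?_⟩
  haveI := h.2.2.2 R (J ≫ e.inv) (θ.inv ≫ f) hR (by
    rw [Category.assoc, ← Category.assoc f, hf]; simp)
  exact IsIso.of_isIso_comp_left θ.inv f

variable {S : Scheme.{u}}

/-- Maximal tori pass to base changes. -/
theorem isMaximalTorus_bc {G T : Over S} [GrpObj G] [GrpObj T] [Smooth G.hom] [QuasiCompact G.hom] {i : T ⟶ G}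
    (h : Red.IsMaximalTorus i) {P : Scheme.{u}} (f : P ⟶ S) :
    Red.IsMaximalTorus (T := Red.bc f T) (G := Red.bc f G) ((Over.pullback f).map i) := by
  obtain ⟨him, hio, hit, hmax⟩ := h
  haveI := him; haveI := hio
  haveI := DiagRep.isMonHom_bc_map f i
  haveI := mono_bc f i
  refine ⟨inferInstance, inferInstance, RedRank.isTorus_bc hit f, fun x R _ J _ _ g hR hg => ?_⟩
  let t := Red.geomPt (f x)
  haveI : Smooth (Red.bc t G).hom := MorphismProperty.pullback_snd (P := @Smooth) _ _ inferInstance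
  haveI : QuasiCompact (Red.bc t G).hom := MorphismProperty.pullback_snd (P := @QuasiCompact) _ _ inferInstance
  haveI := DiagRep.isMonHom_bc_map t i
  haveI := mono_bc t i
  obtain ⟨l, hl⟩ := exists_geomPt_factor f x
  have hgeom := isMaxTorus_bc_field l (G := Red.bc t G) (T := Red.bc t T) (i := (Over.pullback t).map i)
    ⟨inferInstance, inferInstance, RedRank.isTorus_bc hit t, fun R' _ J' _ _ g' => hmax (f x) R' J' g'⟩
  let d := Red.geomPt x ≫ f
  let c₁ : ∀ (X : Over S), Red.bc (Red.geomPt x) (Red.bc f X) ≅ Red.bc d X := fun X =>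
    ActBC.bcCompIso (Red.geomPt x) f X rfl
  let c₂ : ∀ (X : Over S), Red.bc l (Red.bc t X) ≅ Red.bc d X := fun X => ActBC.bcCompIso l t X hl
  haveI : IsMonHom (c₁ G).hom := ActBC.bcCompIso_isMonHom _ _ _
  haveI : IsMonHom (c₁ T).hom := ActBC.bcCompIso_isMonHom _ _ _
  haveI : IsMonHom (c₂ G).hom := ActBC.bcCompIso_isMonHom _ _ _
  haveI : IsMonHom (c₂ T).hom := ActBC.bcCompIso_isMonHom _ _ _
  haveI : IsMonHom (c₁ G).inv := inferInstance
  haveI : IsMonHom (c₂ T).inv := inferInstance
  haveI : IsMonHom ((c₂ G) ≪≫ (c₁ G).symm).hom := inferInstanceAs (IsMonHom ((c₂ G).hom ≫ (c₁ G).inv))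
  haveI : IsMonHom ((c₁ T) ≪≫ (c₂ T).symm).hom := inferInstanceAs (IsMonHom ((c₁ T).hom ≫ (c₂ T).inv))
  have hnat : (c₁ T ≪≫ (c₂ T).symm).hom ≫ (Over.pullback l).map ((Over.pullback t).map i) ≫
      (c₂ G ≪≫ (c₁ G).symm).hom = (Over.pullback (Red.geomPt x)).map ((Over.pullback f).map i) := by
    show ((c₁ T).hom ≫ (c₂ T).inv) ≫ _ ≫ (c₂ G).hom ≫ (c₁ G).inv = _
    rw [← Category.assoc ((Over.pullback l).map _), ActBC.bcCompIso_hom_naturality, Category.assoc,
      Category.assoc, Iso.inv_hom_id_assoc, ← Category.assoc, ← ActBC.bcCompIso_hom_naturality, Category.assoc,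
      Iso.hom_inv_id, Category.comp_id]
  exact (isMaxTorus_iso (c₂ G ≪≫ (c₁ G).symm) (c₁ T ≪≫ (c₂ T).symm) hnat hgeom).2.2.2 R J g hR hg

end Groth.Agent.MaxTorConj
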