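import Groth.Agent.BorelLib.MaxTorGeom
import Groth.Agent.WeightLib.Pts
import Groth.Agent.WeightLib.EtaleQF

/-!
# Maximal tori pass to etale base changes
-/

set_option autoImplicit false
set_option linter.style.haveILetI false
set_option backward.isDefEq.respectTransparency false
set_option maxHeartbeats 2000000
set_option synthInstance.maxHeartbeats 400000

noncomputable section

universe u

open CategoryTheory CategoryTheory.Limits MonoidalCategory CartesianMonoidalCategory AlgebraicGeometry
open scoped MonObj

attribute [-instance] CategoryTheory.Hom.commGroup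

namespace Groth.Agent.MaxTorConj

open BorelLib
attribute [local instance] BorelLib.pTop BorelLib.pTopTensor

variable {S : Scheme.{u}}

/-- The geometric point lies over its point. -/
theorem geomPt_apply (s : S) (x : Spec (CommRingCat.of (AlgebraicClosure (S.residueField s)))) :
    Red.geomPt s x = s := by
  exact S.fromSpecResidueField_apply s _

/-- For an algebraic residue extension the geometric points above and below agree. -/
theorem exists_iso_geomPt {P : Scheme.{u}} (f : P ⟶ S) [LocallyQuasiFinite f] (p : P) :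
    ∃ q : Spec (CommRingCat.of (AlgebraicClosure (S.residueField (f p)))) ⟶
        Spec (CommRingCat.of (AlgebraicClosure (P.residueField p))),
      IsIso q ∧ q ≫ Red.geomPt p ≫ f = Red.geomPt (f p) := by
  let a := (f.residueFieldMap p).hom
  letI : Algebra (S.residueField (f p)) (P.residueField p) := a.toAlgebra
  haveI : Module.Finite (S.residueField (f p)) (P.residueField p) :=
    RingHom.finite_algebraMap.mp (WeightLib.finite_residueFieldMap f p)
  haveI : IsScalarTower (S.residueField (f p)) (P.residueField p) (AlgebraicClosure (P.residueField p)) :=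
    inferInstance
  haveI : Algebra.IsAlgebraic (S.residueField (f p)) (AlgebraicClosure (P.residueField p)) :=
    Algebra.IsAlgebraic.trans (S.residueField (f p)) (P.residueField p) (AlgebraicClosure (P.residueField p))
  haveI : IsAlgClosure (S.residueField (f p)) (AlgebraicClosure (P.residueField p)) :=
    ⟨inferInstance, inferInstance⟩
  let σ := IsAlgClosure.equiv (S.residueField (f p)) (AlgebraicClosure (S.residueField (f p)))
    (AlgebraicClosure (P.residueField p))
  refine ⟨Spec.map (CommRingCat.ofHom σ.symm.toRingEquiv.toRingHom), ?_, ?_⟩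
  · haveI : IsIso (CommRingCat.ofHom σ.symm.toRingEquiv.toRingHom) :=
      (ConcreteCategory.isIso_iff_bijective _).2 σ.symm.bijective
    infer_instance
  · rw [Red.geomPt, Red.geomPt, Category.assoc, ← Scheme.Hom.SpecMap_residueFieldMap_fromSpecResidueField,
      ← Spec.map_comp_assoc, ← Spec.map_comp_assoc]
    congr 2
    refine CommRingCat.hom_ext ?_
    exact σ.symm.toAlgHom.comp_algebraMap

/-- Maximal tori pass to etale (indeed locally quasi-finite) base changes. -/
theorem isMaximalTorus_bc {G T : Over S} [GrpObj G] [GrpObj T] {i : T ⟶ G} (h : Red.IsMaximalTorus i)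
    {P : Scheme.{u}} (f : P ⟶ S) [LocallyQuasiFinite f] :
    Red.IsMaximalTorus (T := Red.bc f T) (G := Red.bc f G) ((Over.pullback f).map i) := by
  obtain ⟨h1, h2, h3, h4⟩ := h
  haveI := h1; haveI := h2
  refine ⟨DiagRep.isMonHom_bc_map f i, mono_bc f i, RedRank.isTorus_bc h3 f, fun p T₀ _ j₀ _ _ f₀ hT₀ hf => ?_⟩
  obtain ⟨q, hqi, hq⟩ := exists_iso_geomPt f p
  haveI := hqi
  let r := Red.geomPt p
  let c : ∀ (X : Over S) [GrpObj X], Red.bc q (Red.bc r (Red.bc f X)) ≅ Red.bc (Red.geomPt (f p)) X :=
    fun X _ => (Over.pullback q).mapIso (ActBC.bcCompIso r f X rfl) ≪≫ ActBC.bcCompIso q (r ≫ f) X hq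
  haveI := DiagRep.isMonHom_bc_map q j₀
  haveI := mono_bc q j₀
  let j' : Red.bc q T₀ ⟶ Red.bc (Red.geomPt (f p)) G := (Over.pullback q).map j₀ ≫ (c G).hom
  haveI hm : IsMonHom j' := by
    haveI := DiagRep.isMonHom_bc_map q (ActBC.bcCompIso r f G rfl).hom
    show IsMonHom ((Over.pullback q).map j₀ ≫ (Over.pullback q).map (ActBC.bcCompIso r f G rfl).hom ≫
      (ActBC.bcCompIso q (r ≫ f) G hq).hom)
    infer_instance
  haveI : Mono j' := mono_comp _ _
  let f' : Red.bc (Red.geomPt (f p)) T ⟶ Red.bc q T₀ := (c T).inv ≫ (Over.pullback q).map f₀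
  haveI := h4 (f p) (Red.bc q T₀) j' f' (RedRank.isTorus_bc hT₀ q) (by
    rw [Category.assoc, Iso.inv_comp_eq]
    show (Over.pullback q).map f₀ ≫ (Over.pullback q).map j₀ ≫ (c G).hom = _
    rw [← Category.assoc, ← Functor.map_comp, hf]
    show (Over.pullback q).map ((Over.pullback r).map ((Over.pullback f).map i)) ≫
        (Over.pullback q).map (ActBC.bcCompIso r f G rfl).hom ≫ (ActBC.bcCompIso q (r ≫ f) G hq).hom =
      ((Over.pullback q).map (ActBC.bcCompIso r f T rfl).hom ≫ (ActBC.bcCompIso q (r ≫ f) T hq).hom) ≫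
        (Over.pullback (Red.geomPt (f p))).map i
    refine ((Category.assoc _ _ _).symm.trans (congrArg (· ≫ (ActBC.bcCompIso q (r ≫ f) G hq).hom) ?_)).trans
      (((Category.assoc _ _ _).trans (congrArg ((Over.pullback q).map (ActBC.bcCompIso r f T rfl).hom ≫ ·)
        (ActBC.bcCompIso_hom_naturality (X := T) (Y := G) (φ := i) (h := hq)))).trans (Category.assoc _ _ _).symm)
    exact ((Over.pullback q).map_comp _ _).symm.trans ((congrArg (Over.pullback q).map
      (ActBC.bcCompIso_hom_naturality (X := T) (Y := G) (φ := i) (h := rfl))).trans ((Over.pullback q).map_comp _ _)))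
  haveI : IsIso ((Over.pullback q).map f₀) := by
    have e : (Over.pullback q).map f₀ = (c T).hom ≫ f' := (Iso.hom_inv_id_assoc _ _).symm
    rw [e]; exact IsIso.comp_isIso
  exact isIso_of_isIso_bc q f₀

end Groth.Agent.MaxTorConj
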