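import Groth.Agent.MaxTorConjLib.Geom
import Groth.Agent.S5246
import Groth.Agent.S16611
import Groth.Agent.EtSectLib.Main
import Groth.Agent.TransporterLib.Main
import Groth.Agent.TransporterLib.Smooth
import Groth.Agent.TransporterLib.SubTop
import Groth.Agent.DescHomLib.MultBC

/-!
Maximal tori are conjugate locally for the etale topology.
-/

set_option autoImplicit false
set_option linter.style.haveILetI false
set_option linter.unusedSectionVars false
set_option backward.isDefEq.respectTransparency false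
set_option maxHeartbeats 2000000
set_option synthInstance.maxHeartbeats 400000

noncomputable section

universe u

open CategoryTheory CategoryTheory.Limits MonoidalCategory CartesianMonoidalCategory AlgebraicGeometry
open scoped MonObj

attribute [-instance] CategoryTheory.Hom.commGroup

namespace Groth.Agent.MaxTorConj

open Groth.Agent.RedRank (homOf isMonHom_homOf comp_homOf proj)

variable {S : Scheme.{u}} {G T₁ T₂ : Over S} [GrpObj G] [GrpObj T₁] [GrpObj T₂]

/-- Pairs of a homomorphism `T₁ → T₂` and a point conjugating accordingly form a smooth scheme. -/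
theorem exists_pairs [Smooth G.hom] [IsSeparated G.hom] (hT₁ : Red.IsTorus T₁) (hT₂ : Red.IsTorus T₂) (i₁ : T₁ ⟶ G)
    [IsMonHom i₁] (i₂ : T₂ ⟶ G) [IsMonHom i₂] :
    ∃ (P : Over S) (g : P ⟶ G) (ψ : T₁ ⊗ P ⟶ T₂), Smooth P.hom ∧ AutFam.IsHomFamily T₁ T₂ ψ ∧
      (∀ (Y : Over S) (y : Y ⟶ P) (h : Y ⟶ T₁), (y ≫ g) * (h ≫ i₁) * (y ≫ g)⁻¹ = (lift h y ≫ ψ) ≫ i₂) ∧
      ∀ (Z : Over S) (g₀ : Z ⟶ G) (ψ₀ : T₁ ⊗ Z ⟶ T₂), AutFam.IsHomFamily T₁ T₂ ψ₀ →
        (∀ (Y : Over S) (y : Y ⟶ Z) (h : Y ⟶ T₁), (y ≫ g₀) * (h ≫ i₁) * (y ≫ g₀)⁻¹ = (lift h y ≫ ψ₀) ≫ i₂) →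
        Nonempty (Z ⟶ P) := by
  have hm₁ := RedRank.isMultTypeFT_of_isTorus hT₁
  haveI := MultEq.isAffineHom_of_isMultTypeFT (RedRank.isMultTypeFT_of_isTorus hT₂)
  obtain ⟨A, υ, ⟨hυ, huniv⟩, hAs, -⟩ := S5246.result T₁ T₂ hm₁ (smooth_of_isTorus hT₂) inferInstance
  haveI := hAs
  let E := (Over.mapPullbackAdj A.hom).homEquiv
  let u₁ : Red.bc A.hom T₁ ⟶ Red.bc A.hom G := (Over.pullback A.hom).map i₁
  let i₂A : Red.bc A.hom T₂ ⟶ Red.bc A.hom G := (Over.pullback A.hom).map i₂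
  haveI : IsMonHom (homOf υ) := isMonHom_homOf hυ
  haveI : IsMonHom u₁ := DiagRep.isMonHom_bc_map A.hom i₁
  haveI : IsMonHom i₂A := DiagRep.isMonHom_bc_map A.hom i₂
  haveI : IsSeparated (Red.bc A.hom G).hom := inferInstanceAs (IsSeparated (pullback.snd G.hom A.hom))
  haveI hGs : Smooth (Red.bc A.hom G).hom := MorphismProperty.pullback_snd (P := @Smooth) _ _ inferInstance
  have hloc := Transporter.locally_of_isMultTypeFT (DescHom.isMultTypeFT_bc hm₁ A.hom)
  obtain ⟨P, j, hj, hjl, hP⟩ := Transporter.exists_transporter hloc u₁ (homOf υ ≫ i₂A)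
  haveI := hj; haveI := hjl
  haveI : LocallyOfFinitePresentation P.hom := by rw [← Over.w j]; infer_instance
  haveI : Mono j.left := inferInstance
  haveI : Smooth P.hom := Transporter.smooth_transporter hloc hGs u₁ (homOf υ ≫ i₂A) j hP
  have hinv : ∀ (X : Over A.left) (a : (Over.map A.hom).obj X ⟶ G), E X G a⁻¹ = (E X G a)⁻¹ := fun X a =>
    map_inv (MonoidHom.mk' (E X G) (fun a b => AlgGrp.Action.homEquiv_mul A.hom a b)) a
  have key : ∀ (X : Over A.left) (gX : (Over.map A.hom).obj X ⟶ G),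
      (∃ p : X ⟶ P, p ≫ j = E X G gX) ↔ ∀ (Y : Over S) (y : Y ⟶ (Over.map A.hom).obj X) (h : Y ⟶ T₁),
        (y ≫ gX) * (h ≫ i₁) * (y ≫ gX)⁻¹ = (lift h (y ≫ proj A X) ≫ υ) ≫ i₂ := by
    intro X gX
    rw [hP]
    have hrec : ∀ (X' : Over A.left) (x : X' ⟶ X) (h : (Over.map A.hom).obj X' ⟶ T₁),
        ((x ≫ E X G gX) * (E X' T₁ h ≫ u₁) * (x ≫ E X G gX)⁻¹ = E X' T₁ h ≫ homOf υ ≫ i₂A ↔
          ((Over.map A.hom).map x ≫ gX) * (h ≫ i₁) * ((Over.map A.hom).map x ≫ gX)⁻¹ =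
            (lift h ((Over.map A.hom).map x ≫ proj A X) ≫ υ) ≫ i₂) := by
      intro X' x h
      have e3 : E X' T₁ h ≫ homOf υ = E X' T₂ (lift h (proj A X') ≫ υ) := by
        rw [comp_homOf]
        show HomRep.bcEquiv A.hom T₂ X' _ = _
        rw [show (HomRep.bcEquiv A.hom T₁ X').symm (E X' T₁ h) = h from Equiv.symm_apply_apply _ _]
      rw [← Category.assoc (E X' T₁ h), e3]
      simp only [E, u₁, i₂A]
      rw [← Adjunction.homEquiv_naturality_left, ← Adjunction.homEquiv_naturality_right,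
        ← Adjunction.homEquiv_naturality_right, ← hinv, ← AlgGrp.Action.homEquiv_mul,
        ← AlgGrp.Action.homEquiv_mul, Equiv.apply_eq_iff_eq,
        show (Over.map A.hom).map x ≫ proj A X = proj A X' from Over.OverMorphism.ext (Over.w x)]
    constructor
    · intro hp Y y h
      let X' : Over A.left := Over.mk (y.left ≫ X.hom)
      let x : X' ⟶ X := Over.homMk y.left rfl
      let ε : (Over.map A.hom).obj X' ⟶ Y := Over.homMk (𝟙 _) (by
        show 𝟙 _ ≫ Y.hom = (y.left ≫ X.hom) ≫ A.hom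
        rw [Category.id_comp, Category.assoc, ← Over.w y]
        rfl)
      haveI : IsIso ((Over.forget _).map ε) := inferInstanceAs (IsIso (𝟙 _))
      haveI : IsIso ε := isIso_of_reflects_iso _ (Over.forget _)
      have ey : ε ≫ y = (Over.map A.hom).map x := Over.OverMorphism.ext (Category.id_comp _)
      rw [← cancel_epi ε, MonObj.comp_mul, MonObj.comp_mul, GrpObj.comp_inv, reassoc_of% ey, ← Category.assoc ε h,
        Category.assoc (lift h _), comp_lift_assoc, reassoc_of% ey, ← Category.assoc]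
      exact (hrec X' x (ε ≫ h)).1 (hp X' x _)
    · intro hY X' x h'
      obtain ⟨h, rfl⟩ := (E X' T₁).surjective h'
      exact (hrec X' x h).2 (hY _ ((Over.map A.hom).map x) h)
  let P' : Over S := (Over.map A.hom).obj P
  let g : P' ⟶ G := (E P G).symm j
  let a : P' ⟶ A := proj A P
  have hfam : ∀ {Z : Over S} (b : Z ⟶ A), AutFam.IsHomFamily T₁ T₂ ((T₁ ◁ b) ≫ υ) := fun b X g₁ g₂ t => by
    simp only [lift_whiskerLeft_assoc]
    exact hυ X g₁ g₂ _
  refine ⟨P', g, (T₁ ◁ a) ≫ υ, inferInstanceAs (Smooth (P.hom ≫ A.hom)), hfam a, fun Y y h => ?_,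
    fun Z g₀ ψ₀ hψ₀ hZ => ?_⟩
  · rw [lift_whiskerLeft_assoc]
    exact (key P g).1 ⟨𝟙 P, by rw [Category.id_comp, Equiv.apply_symm_apply]⟩ Y y h
  · obtain ⟨b, hb, -⟩ := huniv Z ψ₀ hψ₀
    let X : Over A.left := Over.mk b.left
    let ζ : (Over.map A.hom).obj X ≅ Z := RedRank.piso b
    obtain ⟨p, -⟩ := (key X (ζ.hom ≫ g₀)).2 fun Y y h => by
      rw [← Category.assoc, hZ, ← hb, lift_whiskerLeft_assoc,
        show y ≫ proj A X = (y ≫ ζ.hom) ≫ b by rw [Category.assoc, RedRank.piso_hom_comp]]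
    exact ⟨ζ.inv ≫ (Over.map A.hom).map p⟩

theorem exists_geomPt_factor {S' : Scheme.{u}} (f : S' ⟶ S) (s' : S') :
    ∃ l : Spec (CommRingCat.of (AlgebraicClosure (S'.residueField s'))) ⟶
      Spec (CommRingCat.of (AlgebraicClosure (S.residueField (f s')))), l ≫ Red.geomPt (f s') = Red.geomPt s' ≫ f := by
  letI alg : Algebra (S.residueField (f s')) (AlgebraicClosure (S'.residueField s')) :=
    ((algebraMap (S'.residueField s') (AlgebraicClosure (S'.residueField s'))).comp (f.residueFieldMap s').hom).toAlgebra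
  let σ : AlgebraicClosure (S.residueField (f s')) →ₐ[S.residueField (f s')] AlgebraicClosure (S'.residueField s') :=
    IsAlgClosed.lift
  refine ⟨Spec.map (CommRingCat.ofHom σ.toRingHom), ?_⟩
  show Spec.map _ ≫ Spec.map _ ≫ S.fromSpecResidueField (f s') = (Spec.map _ ≫ S'.fromSpecResidueField s') ≫ f
  rw [← Spec.map_comp_assoc, ← CommRingCat.ofHom_comp, Category.assoc,
    ← Scheme.Hom.SpecMap_residueFieldMap_fromSpecResidueField]
  rw [show σ.toRingHom.comp (algebraMap _ _) = _ from σ.comp_algebraMap]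
  rw [← Spec.map_comp_assoc]
  rfl

theorem exists_conj_etale [Smooth G.hom] [IsSeparated G.hom] [QuasiCompact G.hom] (i₁ : T₁ ⟶ G) (i₂ : T₂ ⟶ G)
    (h₁ : Red.IsMaximalTorus i₁) (h₂ : Red.IsMaximalTorus i₂) :
    ∃ (S' : Scheme.{u}) (f : S' ⟶ S), Etale f ∧ Surjective f ∧
      ∃ g : 𝟙_ (Over S') ⟶ Red.bc f G, SGA3x.ConjBy ((Over.pullback f).map i₁) ((Over.pullback f).map i₂) g := by
  obtain ⟨him₁, hio₁, hit₁, hmax₁⟩ := h₁
  obtain ⟨him₂, hio₂, hit₂, hmax₂⟩ := h₂
  haveI := him₁; haveI := hio₁; haveI := him₂; haveI := hio₂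
  obtain ⟨P, g, ψ, hPs, hψ, hP, huniv⟩ := exists_pairs hit₁ hit₂ i₁ i₂
  haveI := hPs
  have hgeom : ∀ s : S, ∃ g₀ : 𝟙_ (Over _) ⟶ Red.bc (Red.geomPt s) G,
      SGA3x.ConjBy ((Over.pullback (Red.geomPt s)).map i₁) ((Over.pullback (Red.geomPt s)).map i₂) g₀ := by
    intro s
    haveI : Smooth (Red.geomFibre s G).hom := MorphismProperty.pullback_snd (P := @Smooth) _ _ inferInstance
    haveI : QuasiCompact (Red.geomFibre s G).hom :=
      MorphismProperty.pullback_snd (P := @QuasiCompact) _ _ inferInstance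
    haveI := DiagRep.isMonHom_bc_map (Red.geomPt s) i₁
    haveI := DiagRep.isMonHom_bc_map (Red.geomPt s) i₂
    haveI := BorelLib.mono_bc (Red.geomPt s) i₁
    haveI := BorelLib.mono_bc (Red.geomPt s) i₂
    exact conj_algClosed (G := Red.geomFibre s G) (i₁ := (Over.pullback (Red.geomPt s)).map i₁)
      (i₂ := (Over.pullback (Red.geomPt s)).map i₂)
      ⟨inferInstance, inferInstance, RedRank.isTorus_bc hit₁ _, fun T' _ J _ _ f => hmax₁ s T' J f⟩
      ⟨inferInstance, inferInstance, RedRank.isTorus_bc hit₂ _, fun T' _ J _ _ f => hmax₂ s T' J f⟩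
  have hrange : ∀ s : S, s ∈ Set.range P.hom := by
    intro s
    obtain ⟨g₀, hg₀⟩ := hgeom s
    obtain ⟨g₁, ψ₁, hψ₁, hc⟩ := exists_conj_family i₁ i₂ (Red.geomPt s) g₀ hg₀
    obtain ⟨z⟩ := huniv _ g₁ ψ₁ hψ₁ hc
    refine ⟨z.left (IsLocalRing.closedPoint (AlgebraicClosure (S.residueField s))), ?_⟩
    rw [← Scheme.Hom.comp_apply, Over.w]
    exact RedRank.geomPt_apply s
  choose Ss fs ss hfs hss ks hks using fun s : S => EtSectLib.exists_section P.hom s (hrange s)
  let S' : Scheme.{u} := ∐ Ss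
  let f : S' ⟶ S := Limits.Sigma.desc fs
  haveI het : Etale f := IsZariskiLocalAtSource.sigmaDesc hfs
  haveI hsurj : Surjective f := ⟨fun s => ⟨(Limits.Sigma.ι Ss s) (ss s), by
    rw [← Scheme.Hom.comp_apply, Limits.Sigma.ι_desc]; exact hss s⟩⟩
  let k : S' ⟶ P.left := Limits.Sigma.desc ks
  have hk : k ≫ P.hom = f := Limits.Sigma.hom_ext _ _ fun s => by simp [k, f, hks]
  let adj := Over.mapPullbackAdj f
  let Z : Over S := Over.mk f
  let z : Z ⟶ P := Over.homMk k hk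
  let ζ : (Over.map f).obj (𝟙_ (Over S')) ⟶ Z := Over.homMk (𝟙 S') rfl
  let gg : 𝟙_ (Over S') ⟶ Red.bc f G := adj.homEquiv _ G (ζ ≫ z ≫ g)
  let ψ' : T₁ ⊗ Z ⟶ T₂ := (T₁ ◁ z) ≫ ψ
  have hψ' : AutFam.IsHomFamily T₁ T₂ ψ' := fun X a b t => by
    simp only [ψ', lift_whiskerLeft_assoc]
    exact hψ X a b _
  let φ : Red.bc f T₁ ⟶ Red.bc f T₂ := homOf (T := Z) ψ'
  haveI : IsMonHom φ := isMonHom_homOf hψ'
  haveI := DiagRep.isMonHom_bc_map f i₁
  haveI := DiagRep.isMonHom_bc_map f i₂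
  haveI := BorelLib.mono_bc f i₁
  haveI := BorelLib.mono_bc f i₂
  have hφ : (toUnit (Red.bc f T₁) ≫ gg) * (Over.pullback f).map i₁ * (toUnit (Red.bc f T₁) ≫ gg)⁻¹ =
      φ ≫ (Over.pullback f).map i₂ := by
    let X := Red.bc f T₁
    let c := (adj.homEquiv X T₁).symm (𝟙 X)
    have e1 : φ = adj.homEquiv X T₂ (lift c (proj Z X) ≫ ψ') := by
      rw [← Category.id_comp φ]
      exact comp_homOf ψ' (𝟙 X)
    have e2 : (Over.map f).map (toUnit X) ≫ ζ = proj Z X := Over.OverMorphism.ext (Category.comp_id _)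
    have h := hP _ ((Over.map f).map (toUnit X) ≫ ζ ≫ z) c
    rw [Category.assoc ((Over.map f).map (toUnit X)), Category.assoc ζ] at h
    have h' := congrArg (adj.homEquiv X G) h
    rw [AlgGrp.Action.homEquiv_mul, AlgGrp.Action.homEquiv_mul,
      show ∀ a, adj.homEquiv X G a⁻¹ = (adj.homEquiv X G a)⁻¹ from fun a =>
        map_inv (MonoidHom.mk' (adj.homEquiv X G) (fun a b => AlgGrp.Action.homEquiv_mul f a b)) a,
      adj.homEquiv_naturality_left, adj.homEquiv_naturality_right c i₁,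
      adj.homEquiv_naturality_right _ i₂] at h'
    rw [show adj.homEquiv X T₁ c = 𝟙 X from Equiv.apply_symm_apply _ _,
      Category.id_comp] at h'
    rw [e1]
    refine h'.trans ?_
    congr 2
    simp only [ψ', lift_whiskerLeft_assoc]
    rw [← e2, Category.assoc]
  haveI : Mono φ := ⟨fun {Y} a b hab => by
    have h : a ≫ φ ≫ (Over.pullback f).map i₂ = b ≫ φ ≫ (Over.pullback f).map i₂ := by
      rw [← Category.assoc, hab, Category.assoc]
    rw [← hφ, MonObj.comp_mul, MonObj.comp_mul, GrpObj.comp_inv, MonObj.comp_mul, MonObj.comp_mul, GrpObj.comp_inv,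
      ← Category.assoc a, ← Category.assoc b, toUnit_unique (a ≫ toUnit _) (toUnit Y),
      toUnit_unique (b ≫ toUnit _) (toUnit Y), mul_left_inj, mul_right_inj] at h
    exact (cancel_mono _).1 h⟩
  haveI : IsIso φ := by
    refine S16611.result (RedRank.isTorus_bc hit₁ f) (RedRank.isTorus_bc hit₂ f) φ fun s' => ?_
    obtain ⟨g₀, φ₀, hφ₀⟩ := hgeom (f s')
    obtain ⟨l, hl⟩ := exists_geomPt_factor f s'
    obtain ⟨r, w, hw, -⟩ := RedCharZeroLib.exists_laurent_iso (RedRank.isTorus_bc hit₁ (Red.geomPt (f s')))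
    haveI := hw
    obtain ⟨d, hd, hd'⟩ := TorusField.exists_DS_iso (AlgebraicClosure (S.residueField (f s'))) (Fin r → ℤ)
    haveI := hd; haveI := hd'
    haveI : IsMonHom (d.symm ≪≫ w).hom := inferInstanceAs (IsMonHom (d.inv ≫ w.hom))
    haveI : IsMonHom (M := Red.geomFibre (f s') T₁) (N := Red.geomFibre (f s') T₂) φ₀.hom := by
      haveI := DiagRep.isMonHom_bc_map (Red.geomPt (f s')) i₁
      haveI := DiagRep.isMonHom_bc_map (Red.geomPt (f s')) i₂
      haveI := BorelLib.mono_bc (Red.geomPt (f s')) i₂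
      refine RedRank.isMonHom_of_mul _ fun Z a b => ?_
      refine (cancel_mono ((Over.pullback (Red.geomPt (f s'))).map i₂)).1 ?_
      conv_rhs => rw [MonObj.mul_comp]
      rw [Category.assoc, Category.assoc, Category.assoc, ← hφ₀]
      simp only [MonObj.comp_mul, GrpObj.comp_inv, MonObj.mul_comp]
      rw [← Category.assoc (a * b), toUnit_unique ((a * b) ≫ toUnit _) (toUnit Z), ← Category.assoc a,
        toUnit_unique (a ≫ toUnit _) (toUnit Z), ← Category.assoc b, toUnit_unique (b ≫ toUnit _) (toUnit Z)]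
      simp only [_root_.mul_assoc, inv_mul_cancel_left]
    let e₁ : Grp.mk (Red.geomFibre (f s') T₁) ≅ Grp.mk (Red.DS _ (Fin r → ℤ)) := (Grp.mkIso' (d.symm ≪≫ w)).symm
    let e₂ : Grp.mk (Red.geomFibre (f s') T₂) ≅ Grp.mk (Red.DS _ (Fin r → ℤ)) := (Grp.mkIso' φ₀).symm ≪≫ e₁
    exact ⟨r, DescHom.nonempty_iso_bc e₁ f (Red.geomPt s') l hl, DescHom.nonempty_iso_bc e₂ f (Red.geomPt s') l hl⟩
  exact ⟨S', f, het, hsurj, gg, asIso φ, hφ⟩

end Groth.Agent.MaxTorConj
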